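import Mathlib
import Cfsg.Agent.Lib.Fusion.AutoPattern
import Cfsg.Agent.Lib.Fusion.SmallEssential
import Cfsg.Agent.Lib.Fusion.StrongEmbed
import Cfsg.Agent.Lib.Coprime.Action2
import Cfsg.Agent.Lib.PGroups.Basic
import Cfsg.Agent.Lib.Base.Frattini

/-!
# Criteria against essential subgroups

An element of `N_S(P)` outside `P` that acts trivially on the factors of an invariant series of an
essential subgroup `P`, or that is trivial modulo the Frattini subgroup, cannot exist.
-/

set_option autoImplicit false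
set_option linter.unusedSectionVars false

namespace CfsgLib.ProductFusion

open Cfsg Cfsg.FusionSystem CfsgLib.Fusion

universe u

variable {Ω : Type u} [Group Ω] {S : Subgroup Ω} [Finite S] {F : FusionSystem S} {P : Subgroup Ω}

theorem autFun_comm (α : MulAut P) {x y : Ω} (hx : x ∈ P) (hy : y ∈ P) :
    x * y = y * x ↔ autFun α x * autFun α y = autFun α y * autFun α x := by
  rw [← autFun_map_mul α hx hy, ← autFun_map_mul α hy hx]
  refine ⟨fun h => by rw [h], fun h => ?_⟩
  rw [← autFun_inv_left α (mul_mem hx hy), h, autFun_inv_left α (mul_mem hy hx)]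

theorem autFun_map_commutator (α : MulAut P) {x y : Ω} (hx : x ∈ P) (hy : y ∈ P) :
    autFun α (x * y * x⁻¹ * y⁻¹) =
      autFun α x * autFun α y * (autFun α x)⁻¹ * (autFun α y)⁻¹ := by
  rw [autFun_map_mul α (mul_mem (mul_mem hx hy) (inv_mem hx)) (inv_mem hy),
    autFun_map_mul α (mul_mem hx hy) (inv_mem hx), autFun_map_mul α hx hy,
    autFun_inv_map α hx, autFun_inv_map α hy]

/-- An automorphism of odd order, trivial modulo the Frattini subgroup, is trivial. -/
theorem eq_one_of_trivial_mod_frattini (hS : IsPGroup 2 S) (hP : P ≤ S) (β : MulAut P)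
    (hodd : (orderOf β).Coprime 2) (h : ∀ x : P, x⁻¹ * β x ∈ frattini P) : β = 1 := by
  classical
  have : Finite P := finite_of_le hP
  have hPp : IsPGroup 2 P := isPGroup_of_le hP hS
  have : Finite (MulAut P) := finite_mulAut hP
  let φ : MulAut P →* MulAut P := MonoidHom.id _
  have : Finite (P ⋊[φ] MulAut P) := Finite.of_equiv _ SemidirectProduct.equivProd.symm
  set b : P ⋊[φ] MulAut P := SemidirectProduct.inr β
  set K : Subgroup (P ⋊[φ] MulAut P) := (SemidirectProduct.inl : P →* P ⋊[φ] MulAut P).range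
  have hb : orderOf b = orderOf β :=
    orderOf_injective SemidirectProduct.inr SemidirectProduct.inr_injective β
  let eK : P ≃* K := MonoidHom.ofInjective SemidirectProduct.inl_injective
  have hK : K.Normal := by
    rw [show K = (SemidirectProduct.rightHom : P ⋊[φ] MulAut P →* MulAut P).ker from
      SemidirectProduct.range_inl_eq_ker_rightHom]
    exact MonoidHom.normal_ker _
  have hKp : IsPGroup 2 K := hPp.of_equiv eK
  have hz : Subgroup.zpowers b ≤ Subgroup.centralizer (K : Set (P ⋊[φ] MulAut P)) := by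
    refine CfsgLib.Coprime.le_centralizer_of_trivial_mod_frattini
      (Subgroup.le_normalizer_of_normal) ?_ ?_
    · obtain ⟨k, hk⟩ := IsPGroup.iff_card.mp (hKp.to_subgroup (frattini K))
      rw [Nat.card_zpowers, hb, hk]
      exact hodd.pow_right k
    · intro a ha k hk
      obtain ⟨n, rfl⟩ := Subgroup.mem_zpowers_iff.1 ha
      obtain ⟨x, rfl⟩ := hk
      have hpow : ∀ (n : ℤ) (y : P), y⁻¹ * (β ^ n) y ∈ frattini P := by
        let H : Subgroup (MulAut P) :=
          { carrier := {γ | ∀ y : P, y⁻¹ * γ y ∈ frattini P}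
            one_mem' := fun y => by simp
            mul_mem' := fun {γ δ} hγ hδ y => by
              have := mul_mem (hδ y) (hγ (δ y))
              rw [MulAut.mul_apply]
              simpa [mul_assoc] using this
            inv_mem' := fun {γ} hγ y => by
              have := inv_mem (hγ (γ⁻¹ y))
              rw [MulAut.apply_inv_self] at this
              simpa using this }
        exact fun n y => zpow_mem (show β ∈ H from h) n y
      refine ⟨eK ((β ^ n) x * x⁻¹), ?_, ?_⟩
      · rw [SetLike.mem_coe, ← CfsgLib.Base.map_frattini_mulEquiv eK]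
        refine ⟨_, ?_, rfl⟩
        have := inv_mem ((inferInstance : (frattini P).Normal).conj_mem _ (inv_mem (hpow n x)) ((β ^ n) x))
        simpa [mul_assoc] using this
      · show (SemidirectProduct.inl ((β ^ n) x * x⁻¹) : P ⋊[φ] MulAut P) = _
        rw [map_mul, map_inv]
        congr 1
        rw [← map_zpow, ← map_inv, ← SemidirectProduct.inl_aut]
        rfl
  refine MulEquiv.ext fun x => SemidirectProduct.inl_injective (φ := φ) ?_
  have h1 : SemidirectProduct.inl x * b = b * SemidirectProduct.inl x :=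
    Subgroup.mem_centralizer_iff.1 (hz (Subgroup.mem_zpowers b)) _ ⟨x, rfl⟩
  show SemidirectProduct.inl (β x) = SemidirectProduct.inl x
  have h2 : SemidirectProduct.inl (φ β x) = b * SemidirectProduct.inl x * b⁻¹ := by
    rw [← map_inv]; exact SemidirectProduct.inl_aut β x
  exact h2.trans (by rw [← h1, mul_inv_cancel_right])

/-- The subgroup generated by the squares of the elements of `P`. -/
def sqs (P : Subgroup Ω) : Subgroup Ω := (frattini P).map P.subtype

theorem sqs_le : sqs P ≤ P := Subgroup.map_subtype_le _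

theorem sq_mem_sqs (hS : IsPGroup 2 S) (hP : P ≤ S) {x : Ω} (hx : x ∈ P) : x * x ∈ sqs P := by
  have : Finite P := finite_of_le hP
  refine ⟨⟨x, hx⟩ ^ 2, CfsgLib.PGroups.pow_mem_frattini (isPGroup_of_le hP hS) _, ?_⟩
  simp [pow_two]

theorem autFun_mem_sqs (α : MulAut P) {x : Ω} (hx : x ∈ sqs P) : autFun α x ∈ sqs P := by
  obtain ⟨y, hy, rfl⟩ := hx
  refine ⟨α y, ?_, (autFun_coe α y).symm⟩
  rw [← CfsgLib.Base.map_frattini_mulEquiv α]
  exact ⟨y, hy, rfl⟩

/-- An element trivial on `P / W` and on `W / Φ(P)` for an invariant `W` lies in `P`. -/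
theorem mem_of_mod_frattini (hS : IsPGroup 2 S) (hP : F.IsEssential 2 P) {W : Subgroup Ω}
    (hW : W ≤ P) (hΦ : sqs P ≤ W) (hinv : ∀ α ∈ F.autGroup P, ∀ x ∈ W, autFun α x ∈ W) {g : Ω}
    (hg : g ∈ normalizerIn S P) (h1 : ∀ x ∈ P, x⁻¹ * cj g x ∈ W)
    (h2 : ∀ x ∈ W, x⁻¹ * cj g x ∈ sqs P) : g ∈ P := by
  have hPS := hP.1.1
  have := finite_mulAut (P := P) hPS
  have : Finite P := finite_of_le hPS
  let Wc : ℕ → Subgroup Ω := fun i => if i = 0 then sqs P else if i = 1 then W else P
  have hWc : ∀ α ∈ F.autGroup P, ∀ i, ∀ x ∈ P, x ∈ Wc i → autFun α x ∈ Wc i := by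
    intro α hα i x hx hxW
    simp only [Wc] at hxW ⊢
    split_ifs with h0 h1'
    · rw [if_pos h0] at hxW; exact autFun_mem_sqs α hxW
    · rw [if_neg h0, if_pos h1'] at hxW; exact hinv α hα x hxW
    · exact autFun_mem α hx
  let K := seriesStab (F.autGroup P) 2 Wc hWc
  have key : ∀ β ∈ K, (orderOf β).Coprime 2 → β = 1 := by
    intro β hβ hcop
    refine eq_one_of_trivial_mod_frattini hS hPS β hcop fun x => ?_
    have hstep0 : ∀ y ∈ P, y ∈ W → y⁻¹ * autFun β y ∈ sqs P := fun y hy hyW => by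
      simpa [Wc] using hβ.2 0 (by norm_num) y hy (by simpa [Wc] using hyW)
    have hd : (x : Ω)⁻¹ * autFun β x ∈ W := by
      simpa [Wc] using hβ.2 1 (by norm_num) x x.2 (by simp [Wc])
    have hmem : ∀ z : P, (z : Ω) ∈ sqs P → z ∈ frattini P := fun z hz => by
      obtain ⟨w, hw, e⟩ := hz
      rwa [show z = w from Subtype.ext e.symm]
    -- the image of `β` in the Frattini quotient has order dividing 2
    set u : P := x⁻¹ * β x with hu
    have huW : (u : Ω) ∈ W := by
      rw [hu, Subgroup.coe_mul, InvMemClass.coe_inv, ← autFun_coe]; exact hd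
    have huu : u⁻¹ * β u ∈ frattini P := hmem _ (by
      rw [Subgroup.coe_mul, InvMemClass.coe_inv, ← autFun_coe]; exact hstep0 _ u.2 huW)
    have hn : ∀ n : ℕ, ((x * u ^ n)⁻¹ * (β ^ n) x : P) ∈ frattini P := by
      intro n
      induction n with
      | zero => simp
      | succ n ih =>
        set w := (x * u ^ n)⁻¹ * (β ^ n) x with hw
        have e : (β ^ (n + 1)) x = x * u * β (u ^ n) * β w := by
          rw [pow_succ', MulAut.mul_apply,
            show (β ^ n) x = x * u ^ n * w by rw [hw, mul_inv_cancel_left], map_mul, map_mul,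
            show β x = x * u by rw [hu, mul_inv_cancel_left]]
        have hβw : β w ∈ frattini P := by
          rw [← CfsgLib.Base.map_frattini_mulEquiv β]; exact ⟨w, ih, rfl⟩
        have hun : (u ^ n)⁻¹ * β (u ^ n) ∈ frattini P := by
          have hN := (inferInstance : (frattini P).Normal)
          clear e hw hβw ih w
          induction n with
          | zero => simp
          | succ m ihm =>
            rw [pow_succ, map_mul]
            have := mul_mem (hN.conj_mem _ ihm u⁻¹) huu
            simpa [mul_assoc] using this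
        rw [e, pow_succ']
        have hNn := (inferInstance : (frattini P).Normal)
        have := mul_mem hun hβw
        simpa [mul_assoc] using this
    have h1' := hn (orderOf β)
    rw [pow_orderOf_eq_one, MulAut.one_apply, mul_inv_rev, mul_assoc, inv_mul_cancel, mul_one] at h1'
    have h1'' := inv_mem h1'
    rw [inv_inv] at h1''
    have h2' : u ^ 2 ∈ frattini P :=
      CfsgLib.PGroups.pow_mem_frattini (isPGroup_of_le hPS hS) u
    obtain ⟨k, hk⟩ : Odd (orderOf β) := (Nat.coprime_two_right).1 hcop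
    rw [hk, pow_succ, pow_mul] at h1''
    exact (Subgroup.mul_mem_cancel_left _ (pow_mem h2' k)).1 h1''
  have hKp : IsPGroup 2 K := by
    haveI : Fact (Nat.Prime 2) := ⟨Nat.prime_two⟩
    rintro ⟨α, hα⟩
    obtain ⟨a, c, hc, hn⟩ := Nat.exists_eq_pow_mul_and_not_dvd (orderOf_pos α).ne' 2 (by norm_num)
    refine ⟨a, Subtype.ext (key _ (K.pow_mem hα _) ?_)⟩
    show (orderOf (α ^ 2 ^ a)).Coprime 2
    rw [orderOf_pow_of_dvd (pow_ne_zero a (by norm_num)) (hn ▸ dvd_mul_right _ _), hn,
      Nat.mul_div_cancel_left _ (pow_pos (by norm_num) a)]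
    exact Nat.Coprime.symm ((Nat.prime_two.coprime_iff_not_dvd).mpr hc)
  have hKI : K ≤ Inn P :=
    le_inn_of_radical (essential_radical hS hP) (fun α hα => hα.1) hKp
      fun a ha k hk => seriesStab_conj ha hk
  obtain ⟨α, hα, e⟩ := exists_autInducedBy (mem_normalizerIn.mp hg).1 (mem_normalizerIn.mp hg).2
  have hαK : α ∈ K := ⟨autInducedBy_le F hPS hα, fun i hi x hx hxW => by
    rw [e x hx]
    interval_cases i
    · simp only [Wc] at hxW ⊢
      simpa using h2 x (by simpa using hxW)
    · simpa [Wc] using h1 x hx⟩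
  exact mem_of_cj_inn hPS (centric_centralizer_le hP.1) (mem_normalizerIn.mp hg).1 (hKI hαK) e

/-- An element centralizing an invariant subgroup `R` and trivial on `P / R` lies in `P`. -/
theorem mem_of_fix (hS : IsPGroup 2 S) (hP : F.IsEssential 2 P) {R : Subgroup Ω}
    (hinv : ∀ α ∈ F.autGroup P, ∀ x ∈ P, x ∈ R → autFun α x ∈ R) {g : Ω}
    (hg : g ∈ normalizerIn S P) (h1 : ∀ x ∈ P, x⁻¹ * cj g x ∈ R)
    (h2 : ∀ x ∈ P, x ∈ R → cj g x = x) : g ∈ P := by
  haveI : Fact (Nat.Prime 2) := ⟨Nat.prime_two⟩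
  let Wc : ℕ → Subgroup Ω := fun i => if i = 0 then ⊥ else if i = 1 then R else P
  refine mem_of_stabilizing hS hP.1 (essential_radical hS hP) 2 Wc ?_ (by simp [Wc]) (by simp [Wc])
    hg fun i hi x hx hxW => ?_
  · intro α hα i x hx hxW
    simp only [Wc] at hxW ⊢
    split_ifs with h0 h1'
    · rw [if_pos h0, Subgroup.mem_bot] at hxW
      subst hxW
      rw [Subgroup.mem_bot, autFun_of_mem α hx]
      exact congrArg Subtype.val (map_one α)
    · rw [if_neg h0, if_pos h1'] at hxW; exact hinv α hα x hx hxW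
    · exact autFun_mem α hx
  · interval_cases i
    · simp only [Wc] at hxW ⊢
      have := h2 x hx (by simpa using hxW)
      simp [this]
    · simpa [Wc] using h1 x hx

end CfsgLib.ProductFusion
namespace CfsgLib.ProductFusion

open Cfsg CfsgLib.Fusion

/-- With a strongly 2-embedded subgroup there is one class of involutions. -/
theorem isConj_of_stronglyEmbedded {X : Type*} [Group X] [Finite X] {E : Subgroup X}
    (hE : IsStronglyPEmbedded 2 E) {a b : X} (ha : a * a = 1) (ha1 : a ≠ 1) (hb : b * b = 1)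
    (hb1 : b ≠ 1) : IsConj a b := by
  classical
  obtain ⟨-, hne, P, hPE⟩ := hE
  haveI : Fact (Nat.Prime 2) := ⟨Nat.prime_two⟩
  -- move both into `P`
  have hinto : ∀ c : X, c * c = 1 → ∃ g : X, g * c * g⁻¹ ∈ (P : Subgroup X) := by
    intro c hc
    have hp : IsPGroup 2 (Subgroup.zpowers c) := by
      refine IsPGroup.iff_orderOf.2 fun y => ?_
      have hy : orderOf c ∣ 2 := orderOf_dvd_of_pow_eq_one (by rw [pow_two, hc])
      have h1 : orderOf y ∣ 2 := (orderOf_dvd_natCard y).trans (by rwa [Nat.card_zpowers])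
      rcases (Nat.dvd_prime Nat.prime_two).1 h1 with h | h <;> [exact ⟨0, h⟩; exact ⟨1, h⟩]
    obtain ⟨g, -, hg⟩ := (show IsSylIn 2 (P : Subgroup X) ⊤ from
      ⟨le_top, P.2, fun C hC hle _ => P.3 hC hle⟩).exists_conj_le hp le_top
    exact ⟨g, hg c (Subgroup.mem_zpowers c)⟩
  by_contra hnc
  refine hne (eq_top_iff.2 fun x _ => ?_)
  obtain ⟨ga, hga⟩ := hinto a ha
  obtain ⟨gb, hgb⟩ := hinto b hb
  set A := ga * a * ga⁻¹ with hA
  set B := gb * b * gb⁻¹ with hB
  have hA2 : A * A = 1 := by rw [hA, conj_mul, ha]; simp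
  have hB2 : B * B = 1 := by rw [hB, conj_mul, hb]; simp
  have hA1 : A ≠ 1 := fun h => ha1 (conj_eq_one_iff.1 h)
  have hB1 : B ≠ 1 := fun h => hb1 (conj_eq_one_iff.1 h)
  have hnAB : ∀ y : X, y * A * y⁻¹ ≠ B := fun y h => hnc (by
    refine isConj_iff.2 ⟨gb⁻¹ * y * ga, ?_⟩
    rw [hA, hB] at h
    calc gb⁻¹ * y * ga * a * (gb⁻¹ * y * ga)⁻¹
        = gb⁻¹ * (y * (ga * a * ga⁻¹) * y⁻¹) * gb := by group
      _ = b := by rw [h]; group)
  have hcent : ∀ c : X, c ∈ (P : Subgroup X) → c ≠ 1 → ∀ y : X, y * c = c * y → y ∈ E :=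
    fun c hc hc1 y hy => mem_of_conj_le P hPE hc hc1 (by rwa [hy, mul_inv_cancel_right])
  have hPE' : (P : Subgroup X) ≤ E := by
    refine Subgroup.le_normalizer.trans ((normalizer_le_kCore le_rfl P.2 fun h => ?_).trans hPE)
    exact hA1 (Subgroup.mem_bot.1 (h ▸ hga))
  have hS : IsSylIn 2 (P : Subgroup X) E := ⟨hPE', P.2, fun C hC h _ => P.3 hC h⟩
  -- the conjugate of `A` by `x` commutes with an involution commuting with `B`
  set A' := x * A * x⁻¹ with hA'
  have hA'2 : A' * A' = 1 := by rw [hA', conj_mul, hA2]; simp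
  have hinvA : A'⁻¹ = A' := inv_eq_of_mul_eq_one_left hA'2
  clear_value A'
  have hinvB : B⁻¹ = B := inv_eq_of_mul_eq_one_left hB2
  set d := A' * B with hd
  have hAd : A' * d * A'⁻¹ = d⁻¹ := by
    rw [hd, _root_.mul_inv_rev, hinvA, hinvB, ← mul_assoc, hA'2, one_mul]
  have heven : Even (orderOf d) := by
    by_contra hodd
    rw [Nat.not_even_iff_odd] at hodd
    obtain ⟨k, hk⟩ := hodd
    refine hnAB (d ^ k * x) ?_
    have hB' : B = A' * d := by rw [hd, ← mul_assoc, hA'2, one_mul]
    have h3 : A' * d ^ k * A'⁻¹ = (d ^ k)⁻¹ := by rw [← conj_pow, hAd, inv_pow]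
    have h4 : d ^ k * d ^ k = d⁻¹ := eq_inv_of_mul_eq_one_left (by
      rw [← pow_add, ← pow_succ, show k + k + 1 = 2 * k + 1 by ring, ← hk, pow_orderOf_eq_one])
    calc d ^ k * x * A * (d ^ k * x)⁻¹
        = d ^ k * A' * (d ^ k)⁻¹ := by rw [hA']; group
      _ = A' * (A' * d ^ k * A'⁻¹) * (d ^ k)⁻¹ := by
        rw [hinvA, ← mul_assoc A', ← mul_assoc A', hA'2, one_mul]
      _ = A' * (d ^ k * d ^ k)⁻¹ := by rw [h3, _root_.mul_inv_rev, mul_assoc]
      _ = B := by rw [h4, inv_inv, hB']
  obtain ⟨m, hm⟩ := heven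
  have hm0 : 0 < m := by have := orderOf_pos d; omega
  set w := d ^ m with hw
  have hw1 : w ≠ 1 := fun h => by
    have := Nat.le_of_dvd hm0 (orderOf_dvd_of_pow_eq_one h)
    omega
  have hwi : w⁻¹ = w := inv_eq_of_mul_eq_one_left (by
    rw [hw, ← pow_add, ← hm, pow_orderOf_eq_one])
  have hwA : A' * w = w * A' := by
    rw [← mul_inv_eq_iff_eq_mul, hw, ← conj_pow, hAd, inv_pow, ← hw, hwi]
  have hwd : w * d = d * w := by rw [hw, ← pow_succ, ← pow_succ']
  have hwB : w * B = B * w := by
    have : B = A' * d := by rw [hd, ← mul_assoc, hA'2, one_mul]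
    rw [this, ← mul_assoc, ← hwA, mul_assoc, hwd, ← mul_assoc]
  have hwE : w ∈ E := hcent B hgb hB1 w hwB
  have hw2 : IsPGroup 2 (Subgroup.zpowers w) := by
    refine IsPGroup.iff_orderOf.2 fun y => ?_
    have hy : orderOf w ∣ 2 := orderOf_dvd_of_pow_eq_one (by
      rw [pow_two, hw, ← pow_add, ← hm, pow_orderOf_eq_one])
    rcases (Nat.dvd_prime Nat.prime_two).1 ((orderOf_dvd_natCard y).trans (by rwa [Nat.card_zpowers]))
      with h | h <;> [exact ⟨0, h⟩; exact ⟨1, h⟩]
  obtain ⟨e, he, hew⟩ := hS.exists_conj_le hw2 (Subgroup.zpowers_le.2 hwE)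
  have hA'E : A' ∈ E := by
    have h1 : e * A' * e⁻¹ ∈ E := hcent _ (hew w (Subgroup.mem_zpowers w))
      (fun h => hw1 (conj_eq_one_iff.1 h)) _ (by rw [conj_mul, hwA, ← conj_mul])
    exact (E.mul_mem_cancel_left he).1 ((E.mul_mem_cancel_right (E.inv_mem he)).1 h1)
  have hA'p : IsPGroup 2 (Subgroup.zpowers A') := by
    refine IsPGroup.iff_orderOf.2 fun y => ?_
    have hy : orderOf A' ∣ 2 := orderOf_dvd_of_pow_eq_one (by rw [pow_two, hA'2])
    rcases (Nat.dvd_prime Nat.prime_two).1 ((orderOf_dvd_natCard y).trans (by rwa [Nat.card_zpowers]))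
      with h | h <;> [exact ⟨0, h⟩; exact ⟨1, h⟩]
  obtain ⟨e', he', he'A⟩ := hS.exists_conj_le hA'p (Subgroup.zpowers_le.2 hA'E)
  have h2 : e' * x ∈ E := mem_of_conj_le P hPE hga hA1 (by
    have := he'A A' (Subgroup.mem_zpowers A')
    have e : e' * x * A * (e' * x)⁻¹ = e' * A' * e'⁻¹ := by rw [hA']; group
    rwa [e])
  exact (E.mul_mem_cancel_left he').1 h2

end CfsgLib.ProductFusion
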